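import Mathlib.Data.ZMod.Basic
import Mathlib.GroupTheory.OrderOfElement
import Mathlib.GroupTheory.Solvable
import Mathlib.Data.Fintype.Prod
import Mathlib.SetTheory.Cardinal.Finite
import Mathlib.Tactic

/-!
Numbers of solutions of `x ^ d = 1` in small semidirect products, for `d` dividing 84.
-/

set_option autoImplicit false

namespace CfsgLib.OrderType

class IsAct {A T : Type} [AddCommGroup A] [Group T] (act : T → A → A) : Prop where
  add : ∀ t a b, act t (a + b) = act t a + act t b
  one : ∀ a, act 1 a = a
  mul : ∀ s t a, act (s * t) a = act s (act t a)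

@[ext] structure SD {A T : Type} (act : T → A → A) where
  v : A
  t : T
deriving DecidableEq

variable {A T : Type} [AddCommGroup A] [Group T] {act : T → A → A} [IsAct act]

theorem act_zero (t : T) : act t 0 = 0 := by
  have h := IsAct.add (act := act) t 0 0
  rw [add_zero] at h
  exact left_eq_add.1 h

instance sdGroup : Group (SD act) where
  mul x y := ⟨x.v + act x.t y.v, x.t * y.t⟩
  one := ⟨0, 1⟩
  inv x := ⟨act x.t⁻¹ (-x.v), x.t⁻¹⟩
  mul_assoc x y z := SD.ext
    (by show x.v + act x.t y.v + act (x.t * y.t) z.v = x.v + act x.t (y.v + act y.t z.v)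
        rw [IsAct.add (act := act), IsAct.mul (act := act), add_assoc]) (mul_assoc _ _ _)
  one_mul x := SD.ext (by show 0 + act 1 x.v = x.v; rw [zero_add, IsAct.one (act := act)]) (one_mul _)
  mul_one x := SD.ext (by show x.v + act x.t 0 = x.v; rw [act_zero (act := act), add_zero]) (mul_one _)
  inv_mul_cancel x := SD.ext
    (by show act x.t⁻¹ (-x.v) + act x.t⁻¹ x.v = 0; rw [← IsAct.add (act := act), neg_add_cancel, act_zero (act := act)])
    (inv_mul_cancel _)

def sdEquiv : SD act ≃ A × T := ⟨fun x => (x.v, x.t), fun p => ⟨p.1, p.2⟩, fun _ => rfl, fun _ => rfl⟩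
instance sdFin [Fintype A] [Fintype T] : Fintype (SD act) := Fintype.ofEquiv _ sdEquiv.symm

def sq {G : Type} [Mul G] (x : G) := x * x
def cb {G : Type} [Mul G] (x : G) := x * x * x
def p7 {G : Type} [Mul G] (x : G) := sq (cb x) * x

def powers {G : Type} [Mul G] (x : G) : List G :=
  [x, sq x, cb x, sq (sq x), sq (cb x), p7 x, sq (sq (cb x)), sq (p7 x), cb (p7 x), sq (sq (p7 x)), sq (cb (p7 x)), sq (sq (cb (p7 x)))]

def counts (G : Type) [Group G] [Fintype G] [DecidableEq G] : List ℕ :=
  (List.range 12).map fun i => (Finset.univ.filter fun x : G => (powers x).getD i 1 = 1).card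

theorem sd_isSolvable (hA : Group.IsSolvable T) : Group.IsSolvable (SD act) := by
  let π : SD act →* T := { toFun := fun x => x.t, map_one' := rfl, map_mul' := fun _ _ => rfl }
  let ι : Multiplicative A →* SD act :=
    { toFun := fun a => ⟨a.toAdd, 1⟩
      map_one' := rfl
      map_mul' := fun a b => SD.ext (by show a.toAdd + b.toAdd = a.toAdd + act 1 b.toAdd; rw [IsAct.one (act := act)])
        (one_mul 1).symm }
  haveI : Group.IsSolvable (Multiplicative A) := Group.isSolvable_of_comm fun a b => mul_comm a b
  refine Group.isSolvable_of_ker_le_range ι π fun x hx => ⟨Multiplicative.ofAdd x.v, ?_⟩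
  exact SD.ext rfl (MonoidHom.mem_ker.1 hx).symm

/-- The divisors of 84. -/
def divs (i : Fin 12) : ℕ := [1, 2, 3, 4, 6, 7, 12, 14, 21, 28, 42, 84].getD i 1

/-- The numbers of solutions of `x ^ d = 1`, in a group of exponent dividing 84. -/
structure HasProfile (G : Type) [Group G] (v : Fin 12 → ℕ) : Prop where
  count : ∀ i, Nat.card {x : G // x ^ divs i = 1} = v i
  exponent : ∀ x : G, x ^ 84 = 1

theorem powers_eq {G : Type} [Group G] (x : G) (i : Fin 12) : (powers x).getD i 1 = x ^ divs i := by
  fin_cases i <;> simp [powers, divs, sq, cb, p7, pow_succ, mul_assoc]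

/-- A profile from a computed list of counts. -/
theorem HasProfile.of_counts {G : Type} [Group G] [Fintype G] [DecidableEq G] (l : List ℕ)
    (h : counts G = l) (hcard : l.getD 11 0 = Fintype.card G) : HasProfile G fun i => l.getD i 0 := by
  have hc : ∀ i : Fin 12, Nat.card {x : G // x ^ divs i = 1} = l.getD i 0 := by
    intro i
    rw [← h, Nat.card_eq_fintype_card, Fintype.card_subtype]
    simp only [counts, List.getD_eq_getElem?_getD, List.getElem?_map, List.getElem?_range i.2, Option.map_some, Option.getD_some]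
    congr 1
    refine Finset.filter_congr fun x _ => ?_
    rw [← powers_eq, List.getD_eq_getElem?_getD]
  refine ⟨hc, fun x => ?_⟩
  have h11 := hc 11
  rw [show ((11 : Fin 12) : ℕ) = 11 from rfl, hcard, Nat.card_eq_fintype_card, Fintype.card_subtype,
    Finset.card_eq_iff_eq_univ] at h11
  exact (Finset.mem_filter.1 (h11.symm ▸ Finset.mem_univ x :
    x ∈ Finset.univ.filter fun x : G => x ^ divs 11 = 1)).2

theorem HasProfile.prod {G H : Type} [Group G] [Group H] {v w : Fin 12 → ℕ} (hG : HasProfile G v)
    (hH : HasProfile H w) : HasProfile (G × H) (v * w) where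
  count i := by
    rw [Pi.mul_apply, ← hG.count, ← hH.count, ← Nat.card_prod]
    exact Nat.card_congr ((Equiv.subtypeEquivRight (q := fun p : G × H => p.1 ^ divs i = 1 ∧ p.2 ^ divs i = 1) fun p => Prod.ext_iff).trans
      (Equiv.subtypeProdEquivProd (p := fun g : G => g ^ divs i = 1) (q := fun h : H => h ^ divs i = 1)))
  exponent p := Prod.ext (hG.exponent p.1) (hH.exponent p.2)

theorem HasProfile.pow {G : Type} [Group G] {v : Fin 12 → ℕ} (hG : HasProfile G v) (k : ℕ) :
    HasProfile (Fin k → G) (v ^ k) where
  count i := by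
    rw [Pi.pow_apply, ← hG.count]
    refine (Nat.card_congr ((Equiv.subtypeEquivRight (p := fun f : Fin k → G => f ^ divs i = 1)
      (q := fun f : Fin k → G => ∀ j, f j ^ divs i = 1) fun f => funext_iff).trans
        (Equiv.subtypePiEquivPi (p := fun (_ : Fin k) (g : G) => g ^ divs i = 1)))).trans ?_
    rw [Nat.card_pi]
    simp
  exponent f := funext fun j => hG.exponent (f j)

theorem pi_isSolvable {G : Type} [Group G] (h : Group.IsSolvable G) (k : ℕ) : Group.IsSolvable (Fin k → G) := by
  induction k with
  | zero => exact Group.isSolvable_of_comm fun a b => Subsingleton.elim _ _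
  | succ k ih =>
    haveI := h
    haveI := ih
    let f : (Fin (k + 1) → G) →* G × (Fin k → G) :=
      { toFun := fun x => (x 0, fun j => x j.succ), map_one' := rfl, map_mul' := fun _ _ => rfl }
    refine Group.isSolvable_of_isSolvable_injective (f := f) fun x y hxy => funext fun j => ?_
    refine Fin.cases ?_ ?_ j
    · exact congrArg Prod.fst hxy
    · exact fun j => congrFun (congrArg Prod.snd hxy) j

/-- Equal profiles give equally many elements of each exponent. -/
theorem HasProfile.card_pow_eq {G H : Type} [Group G] [Group H] {v : Fin 12 → ℕ} (hG : HasProfile G v)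
    (hH : HasProfile H v) (n : ℕ) : Nat.card {x : G // x ^ n = 1} = Nat.card {x : H // x ^ n = 1} := by
  obtain ⟨i, hi⟩ : ∃ i : Fin 12, divs i = Nat.gcd n 84 := by
    have key : ∀ d : ℕ, d ≤ 84 → d ∣ 84 → ∃ i : Fin 12, divs i = d := by decide
    exact key _ (Nat.le_of_dvd (by norm_num) (Nat.gcd_dvd_right n 84)) (Nat.gcd_dvd_right n 84)
  have aux : ∀ (K : Type) [Group K], (∀ x : K, x ^ 84 = 1) →
      Nat.card {x : K // x ^ n = 1} = Nat.card {x : K // x ^ divs i = 1} := by
    intro K _ h
    refine Nat.card_congr (Equiv.subtypeEquivRight fun x => ?_)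
    rw [hi, pow_gcd_eq_one]
    exact ⟨fun hx => ⟨hx, h x⟩, fun hx => hx.1⟩
  rw [aux G hG.exponent, aux H hH.exponent, hG.count, hH.count]

end CfsgLib.OrderType
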