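import Cfsg.Agent.Lib.OrderType.Basic

/-!
Profiles of small solvable groups.
-/

set_option autoImplicit false
set_option maxHeartbeats 1000000

namespace CfsgLib.OrderType

theorem profile_a4 : HasProfile (Multiplicative (ZMod 4)) fun i => [1, 2, 1, 4, 2, 1, 4, 2, 1, 4, 2, 4].getD i 0 :=
  HasProfile.of_counts _ (by decide +kernel) (by decide +kernel)

theorem solvable_a4 : Group.IsSolvable (Multiplicative (ZMod 4)) :=
  Group.isSolvable_of_comm fun a b => mul_comm a b

theorem profile_a2 : HasProfile (Multiplicative (ZMod 2)) fun i => [1, 2, 1, 2, 2, 1, 2, 2, 1, 2, 2, 2].getD i 0 :=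
  HasProfile.of_counts _ (by decide +kernel) (by decide +kernel)

theorem solvable_a2 : Group.IsSolvable (Multiplicative (ZMod 2)) :=
  Group.isSolvable_of_comm fun a b => mul_comm a b

theorem profile_a3 : HasProfile (Multiplicative (ZMod 3)) fun i => [1, 1, 3, 1, 3, 1, 3, 1, 3, 1, 3, 3].getD i 0 :=
  HasProfile.of_counts _ (by decide +kernel) (by decide +kernel)

theorem solvable_a3 : Group.IsSolvable (Multiplicative (ZMod 3)) :=
  Group.isSolvable_of_comm fun a b => mul_comm a b

theorem profile_a7 : HasProfile (Multiplicative (ZMod 7)) fun i => [1, 1, 1, 1, 1, 7, 1, 7, 7, 7, 7, 7].getD i 0 :=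
  HasProfile.of_counts _ (by decide +kernel) (by decide +kernel)

theorem solvable_a7 : Group.IsSolvable (Multiplicative (ZMod 7)) :=
  Group.isSolvable_of_comm fun a b => mul_comm a b

/-- An action. -/
def act_g28 (t : Multiplicative (ZMod 4)) (a : ZMod 7) : ZMod 7 := 6 ^ t.toAdd.val * a

instance isAct_g28 : IsAct act_g28 := ⟨by decide +kernel, by decide +kernel, by decide +kernel⟩

theorem profile_g28 : HasProfile (SD act_g28) fun i => [1, 2, 1, 16, 2, 7, 16, 14, 7, 28, 14, 28].getD i 0 :=
  HasProfile.of_counts _ (by decide +kernel) (by decide +kernel)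

theorem solvable_g28 : Group.IsSolvable (SD act_g28) :=
  sd_isSolvable (Group.isSolvable_of_comm fun a b => mul_comm a b)

/-- An action. -/
def act_g56 (t : Multiplicative (ZMod 2)) (a : ZMod 4 × ZMod 7) : ZMod 4 × ZMod 7 := (3 ^ t.toAdd.val * a.1, 6 ^ t.toAdd.val * a.2)

instance isAct_g56 : IsAct act_g56 := ⟨by decide +kernel, by decide +kernel, by decide +kernel⟩

theorem profile_g56 : HasProfile (SD act_g56) fun i => [1, 30, 1, 32, 30, 7, 32, 42, 7, 56, 42, 56].getD i 0 :=
  HasProfile.of_counts _ (by decide +kernel) (by decide +kernel)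

theorem solvable_g56 : Group.IsSolvable (SD act_g56) :=
  sd_isSolvable (Group.isSolvable_of_comm fun a b => mul_comm a b)

/-- An action. -/
def act_g8 (t : Multiplicative (ZMod 2)) (a : ZMod 4) : ZMod 4 := 3 ^ t.toAdd.val * a

instance isAct_g8 : IsAct act_g8 := ⟨by decide +kernel, by decide +kernel, by decide +kernel⟩

theorem profile_g8 : HasProfile (SD act_g8) fun i => [1, 6, 1, 8, 6, 1, 8, 6, 1, 8, 6, 8].getD i 0 :=
  HasProfile.of_counts _ (by decide +kernel) (by decide +kernel)

theorem solvable_g8 : Group.IsSolvable (SD act_g8) :=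
  sd_isSolvable (Group.isSolvable_of_comm fun a b => mul_comm a b)

/-- An action. -/
def act_g36 (t : Multiplicative (ZMod 4)) (a : ZMod 3 × ZMod 3) : ZMod 3 × ZMod 3 := (2 ^ t.toAdd.val * a.1, 2 ^ t.toAdd.val * a.2)

instance isAct_g36 : IsAct act_g36 := ⟨by decide +kernel, by decide +kernel, by decide +kernel⟩

theorem profile_g36 : HasProfile (SD act_g36) fun i => [1, 2, 9, 20, 18, 1, 36, 2, 9, 20, 18, 36].getD i 0 :=
  HasProfile.of_counts _ (by decide +kernel) (by decide +kernel)

theorem solvable_g36 : Group.IsSolvable (SD act_g36) :=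
  sd_isSolvable (Group.isSolvable_of_comm fun a b => mul_comm a b)

/-- An action. -/
def act_g18 (t : Multiplicative (ZMod 2)) (a : ZMod 3 × ZMod 3) : ZMod 3 × ZMod 3 := (2 ^ t.toAdd.val * a.1, 2 ^ t.toAdd.val * a.2)

instance isAct_g18 : IsAct act_g18 := ⟨by decide +kernel, by decide +kernel, by decide +kernel⟩

theorem profile_g18 : HasProfile (SD act_g18) fun i => [1, 10, 9, 10, 18, 1, 18, 10, 9, 10, 18, 18].getD i 0 :=
  HasProfile.of_counts _ (by decide +kernel) (by decide +kernel)

theorem solvable_g18 : Group.IsSolvable (SD act_g18) :=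
  sd_isSolvable (Group.isSolvable_of_comm fun a b => mul_comm a b)

/-- An action. -/
def act_g24 (t : Multiplicative (ZMod 2)) (a : ZMod 2 × ZMod 2 × ZMod 3) : ZMod 2 × ZMod 2 × ZMod 3 := (if t.toAdd.val = 0 then a else (a.2.1, a.1, 2 * a.2.2))

instance isAct_g24 : IsAct act_g24 := ⟨by decide +kernel, by decide +kernel, by decide +kernel⟩

theorem profile_g24 : HasProfile (SD act_g24) fun i => [1, 10, 3, 16, 18, 1, 24, 10, 3, 16, 18, 24].getD i 0 :=
  HasProfile.of_counts _ (by decide +kernel) (by decide +kernel)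

theorem solvable_g24 : Group.IsSolvable (SD act_g24) :=
  sd_isSolvable (Group.isSolvable_of_comm fun a b => mul_comm a b)

/-- An action. -/
def act_g6 (t : Multiplicative (ZMod 2)) (a : ZMod 3) : ZMod 3 := 2 ^ t.toAdd.val * a

instance isAct_g6 : IsAct act_g6 := ⟨by decide +kernel, by decide +kernel, by decide +kernel⟩

theorem profile_g6 : HasProfile (SD act_g6) fun i => [1, 4, 3, 4, 6, 1, 6, 4, 3, 4, 6, 6].getD i 0 :=
  HasProfile.of_counts _ (by decide +kernel) (by decide +kernel)

theorem solvable_g6 : Group.IsSolvable (SD act_g6) :=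
  sd_isSolvable (Group.isSolvable_of_comm fun a b => mul_comm a b)

/-- An action. -/
def act_g12 (t : Multiplicative (ZMod 4)) (a : ZMod 3) : ZMod 3 := 2 ^ t.toAdd.val * a

instance isAct_g12 : IsAct act_g12 := ⟨by decide +kernel, by decide +kernel, by decide +kernel⟩

theorem profile_g12 : HasProfile (SD act_g12) fun i => [1, 2, 3, 8, 6, 1, 12, 2, 3, 8, 6, 12].getD i 0 :=
  HasProfile.of_counts _ (by decide +kernel) (by decide +kernel)

theorem solvable_g12 : Group.IsSolvable (SD act_g12) :=
  sd_isSolvable (Group.isSolvable_of_comm fun a b => mul_comm a b)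

/-- An action. -/
def act_g14 (t : Multiplicative (ZMod 2)) (a : ZMod 7) : ZMod 7 := 6 ^ t.toAdd.val * a

instance isAct_g14 : IsAct act_g14 := ⟨by decide +kernel, by decide +kernel, by decide +kernel⟩

theorem profile_g14 : HasProfile (SD act_g14) fun i => [1, 8, 1, 8, 8, 7, 8, 14, 7, 14, 14, 14].getD i 0 :=
  HasProfile.of_counts _ (by decide +kernel) (by decide +kernel)

theorem solvable_g14 : Group.IsSolvable (SD act_g14) :=
  sd_isSolvable (Group.isSolvable_of_comm fun a b => mul_comm a b)

/-- An action. -/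
def act_g42 (t : Multiplicative (ZMod 6)) (a : ZMod 7) : ZMod 7 := 3 ^ t.toAdd.val * a

instance isAct_g42 : IsAct act_g42 := ⟨by decide +kernel, by decide +kernel, by decide +kernel⟩

theorem profile_g42 : HasProfile (SD act_g42) fun i => [1, 8, 15, 8, 36, 7, 36, 14, 21, 14, 42, 42].getD i 0 :=
  HasProfile.of_counts _ (by decide +kernel) (by decide +kernel)

theorem solvable_g42 : Group.IsSolvable (SD act_g42) :=
  sd_isSolvable (Group.isSolvable_of_comm fun a b => mul_comm a b)

/-- An action. -/
def act_g21 (t : Multiplicative (ZMod 3)) (a : ZMod 7) : ZMod 7 := 2 ^ t.toAdd.val * a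

instance isAct_g21 : IsAct act_g21 := ⟨by decide +kernel, by decide +kernel, by decide +kernel⟩

theorem profile_g21 : HasProfile (SD act_g21) fun i => [1, 1, 15, 1, 15, 7, 15, 7, 21, 7, 21, 21].getD i 0 :=
  HasProfile.of_counts _ (by decide +kernel) (by decide +kernel)

theorem solvable_g21 : Group.IsSolvable (SD act_g21) :=
  sd_isSolvable (Group.isSolvable_of_comm fun a b => mul_comm a b)

/-- An action. -/
def act_g126 (t : Multiplicative (ZMod 2)) (a : ZMod 3 × ZMod 3 × ZMod 7) : ZMod 3 × ZMod 3 × ZMod 7 := (2 ^ t.toAdd.val * a.1, 2 ^ t.toAdd.val * a.2.1, 6 ^ t.toAdd.val * a.2.2)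

instance isAct_g126 : IsAct act_g126 := ⟨by decide +kernel, by decide +kernel, by decide +kernel⟩

theorem profile_g126 : HasProfile (SD act_g126) fun i => [1, 64, 9, 64, 72, 7, 72, 70, 63, 70, 126, 126].getD i 0 :=
  HasProfile.of_counts _ (by decide +kernel) (by decide +kernel)

theorem solvable_g126 : Group.IsSolvable (SD act_g126) :=
  sd_isSolvable (Group.isSolvable_of_comm fun a b => mul_comm a b)

/-- An action. -/
def act_g98 (t : Multiplicative (ZMod 2)) (a : ZMod 7 × ZMod 7) : ZMod 7 × ZMod 7 := (6 ^ t.toAdd.val * a.1, 6 ^ t.toAdd.val * a.2)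

instance isAct_g98 : IsAct act_g98 := ⟨by decide +kernel, by decide +kernel, by decide +kernel⟩

theorem profile_g98 : HasProfile (SD act_g98) fun i => [1, 50, 1, 50, 50, 49, 50, 98, 49, 98, 98, 98].getD i 0 :=
  HasProfile.of_counts _ (by decide +kernel) (by decide +kernel)

theorem solvable_g98 : Group.IsSolvable (SD act_g98) :=
  sd_isSolvable (Group.isSolvable_of_comm fun a b => mul_comm a b)

/-- An action. -/
def act_g252 (t : Multiplicative (ZMod 4)) (a : ZMod 3 × ZMod 3 × ZMod 7) : ZMod 3 × ZMod 3 × ZMod 7 := (2 ^ t.toAdd.val * a.1, 2 ^ t.toAdd.val * a.2.1, 6 ^ t.toAdd.val * a.2.2)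

instance isAct_g252 : IsAct act_g252 := ⟨by decide +kernel, by decide +kernel, by decide +kernel⟩

theorem profile_g252 : HasProfile (SD act_g252) fun i => [1, 2, 9, 128, 18, 7, 144, 14, 63, 140, 126, 252].getD i 0 :=
  HasProfile.of_counts _ (by decide +kernel) (by decide +kernel)

theorem solvable_g252 : Group.IsSolvable (SD act_g252) :=
  sd_isSolvable (Group.isSolvable_of_comm fun a b => mul_comm a b)

/-- An action. -/
def act_g294 (t : Multiplicative (ZMod 6)) (a : ZMod 7 × ZMod 7) : ZMod 7 × ZMod 7 := (3 ^ t.toAdd.val * a.1, 6 ^ t.toAdd.val * a.2)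

instance isAct_g294 : IsAct act_g294 := ⟨by decide +kernel, by decide +kernel, by decide +kernel⟩

theorem profile_g294 : HasProfile (SD act_g294) fun i => [1, 50, 15, 50, 162, 49, 162, 98, 147, 98, 294, 294].getD i 0 :=
  HasProfile.of_counts _ (by decide +kernel) (by decide +kernel)

theorem solvable_g294 : Group.IsSolvable (SD act_g294) :=
  sd_isSolvable (Group.isSolvable_of_comm fun a b => mul_comm a b)

/-- An action. -/
def act_g588 (t : Multiplicative (ZMod 12)) (a : ZMod 7 × ZMod 7) : ZMod 7 × ZMod 7 := (3 ^ t.toAdd.val * a.1, 6 ^ t.toAdd.val * a.2)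

instance isAct_g588 : IsAct act_g588 := ⟨by decide +kernel, by decide +kernel, by decide +kernel⟩

theorem profile_g588 : HasProfile (SD act_g588) fun i => [1, 2, 15, 100, 30, 49, 324, 98, 147, 196, 294, 588].getD i 0 :=
  HasProfile.of_counts _ (by decide +kernel) (by decide +kernel)

theorem solvable_g588 : Group.IsSolvable (SD act_g588) :=
  sd_isSolvable (Group.isSolvable_of_comm fun a b => mul_comm a b)

end CfsgLib.OrderType
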