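import Cfsg.Agent.Lib.OrderType.Basic

/-!
Profiles of small solvable groups.
-/

set_option autoImplicit false
set_option maxHeartbeats 1000000

namespace CfsgLib.OrderType

/-- An action. -/
def act_g252b (t : (Multiplicative (ZMod 2)) × (Multiplicative (ZMod 2))) (a : ZMod 3 × ZMod 3 × ZMod 7) : ZMod 3 × ZMod 3 × ZMod 7 := (2 ^ t.2.toAdd.val * a.1, 2 ^ t.1.toAdd.val * a.2.1, 6 ^ (t.1.toAdd.val + t.2.toAdd.val) * a.2.2)

instance isAct_g252b : IsAct act_g252b := ⟨by decide +kernel, by decide +kernel, by decide +kernel⟩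

theorem profile_g252b : HasProfile (SD act_g252b) fun i => [1, 52, 9, 52, 144, 7, 144, 112, 63, 112, 252, 252].getD i 0 :=
  HasProfile.of_counts _ (by decide +kernel) (by decide +kernel)

theorem solvable_g252b : Group.IsSolvable (SD act_g252b) :=
  sd_isSolvable (Group.isSolvable_of_comm fun a b => mul_comm a b)

/-- An action. -/
def act_g504 (t : (Multiplicative (ZMod 2)) × (Multiplicative (ZMod 4))) (a : ZMod 3 × ZMod 3 × ZMod 7) : ZMod 3 × ZMod 3 × ZMod 7 := (2 ^ t.2.toAdd.val * a.1, 2 ^ t.1.toAdd.val * a.2.1, 6 ^ (t.1.toAdd.val + t.2.toAdd.val) * a.2.2)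

instance isAct_g504 : IsAct act_g504 := ⟨by decide +kernel, by decide +kernel, by decide +kernel⟩

theorem profile_g504 : HasProfile (SD act_g504) fun i => [1, 44, 9, 104, 144, 7, 288, 56, 63, 224, 252, 504].getD i 0 :=
  HasProfile.of_counts _ (by decide +kernel) (by decide +kernel)

theorem solvable_g504 : Group.IsSolvable (SD act_g504) :=
  sd_isSolvable (Group.isSolvable_of_comm fun a b => mul_comm a b)

/-- An action. -/
def act_t21 (t : Multiplicative (ZMod 3)) (a : ZMod 7) : ZMod 7 := 2 ^ t.toAdd.val * a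

instance isAct_t21 : IsAct act_t21 := ⟨by decide +kernel, by decide +kernel, by decide +kernel⟩

/-- An action. -/
def act_g168 (t : SD act_t21) (a : ZMod 2 × ZMod 2 × ZMod 2) : ZMod 2 × ZMod 2 × ZMod 2 := (fun b : ZMod 2 × ZMod 2 × ZMod 2 => (b.2.2, b.2.1 + b.2.2, b.1 + b.2.1))^[t.v.val] ((fun b : ZMod 2 × ZMod 2 × ZMod 2 => (b.2.1, b.2.2, b.1))^[t.t.toAdd.val] a)

instance isAct_g168 : IsAct act_g168 := ⟨by decide +kernel, by decide +kernel, by decide +kernel⟩

theorem profile_g168 : HasProfile (SD act_g168) fun i => [1, 8, 57, 8, 120, 49, 120, 56, 105, 56, 168, 168].getD i 0 :=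
  HasProfile.of_counts _ (by decide +kernel) (by decide +kernel)

theorem solvable_g168 : Group.IsSolvable (SD act_g168) :=
  sd_isSolvable (sd_isSolvable (Group.isSolvable_of_comm fun a b => mul_comm a b))

/-- An action. -/
def act_t28 (t : Multiplicative (ZMod 2)) (a : ZMod 14) : ZMod 14 := 13 ^ t.toAdd.val * a

instance isAct_t28 : IsAct act_t28 := ⟨by decide +kernel, by decide +kernel, by decide +kernel⟩

/-- An action. -/
def act_g448 (t : SD act_t28) (a : ZMod 4 × ZMod 4) : ZMod 4 × ZMod 4 := (fun b : ZMod 4 × ZMod 4 => (-b.1, -b.2))^[t.v.val] ((fun b : ZMod 4 × ZMod 4 => (b.1 + 2 * b.2, b.2))^[t.t.toAdd.val] a)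

instance isAct_g448 : IsAct act_g448 := ⟨by decide +kernel, by decide +kernel, by decide +kernel⟩

theorem profile_g448 : HasProfile (SD act_g448) fun i => [1, 104, 1, 256, 104, 7, 256, 224, 7, 448, 224, 448].getD i 0 :=
  HasProfile.of_counts _ (by decide +kernel) (by decide +kernel)

theorem solvable_g448 : Group.IsSolvable (SD act_g448) :=
  sd_isSolvable (sd_isSolvable (Group.isSolvable_of_comm fun a b => mul_comm a b))

end CfsgLib.OrderType
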