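import Cfsg.Agent.Lib.OrderType.GroupsA
import Cfsg.Agent.Lib.OrderType.GroupsB
import Cfsg.Agent.Lib.Linear.Simple

/-!
A solvable and a nonsolvable group with the same number of elements of each order.
-/

set_option autoImplicit false
set_option maxHeartbeats 1000000
set_option synthInstance.maxSize 2000

namespace CfsgLib.OrderType

theorem profile_sl3 : HasProfile (Matrix.SpecialLinearGroup (Fin 3) (ZMod 2))
    fun i => [1, 22, 57, 64, 78, 49, 120, 70, 105, 112, 126, 168].getD i 0 :=
  HasProfile.of_counts _ (by decide +kernel) (by decide +kernel)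

/-- The solvable group. -/
abbrev Left : Type := (Fin 1 → Multiplicative (ZMod 4)) × (Fin 4 → SD act_g8) × (Fin 3 → SD act_g18) × (Fin 3 → SD act_g24) × (Fin 3 → SD act_g6) × (Fin 3 → SD act_g14) × (Fin 6 → SD act_g42) × (Fin 2 → SD act_g98) × (Fin 3 → SD act_g252) × (Fin 1 → Multiplicative (ZMod 7)) × (Fin 1 → SD act_g588) × (Fin 3 → SD act_g168) × (Fin 3 → SD act_g504) × (Fin 3 → SD act_g448)

/-- The nonsolvable group. -/
abbrev Right : Type := (Fin 3 → Matrix.SpecialLinearGroup (Fin 3) (ZMod 2)) × (Fin 5 → SD act_g28) × (Fin 4 → SD act_g56) × (Fin 3 → SD act_g36) × (Fin 29 → Multiplicative (ZMod 2)) × (Fin 3 → SD act_g126) × (Fin 4 → SD act_g21) × (Fin 3 → SD act_g294) × (Fin 3 → Multiplicative (ZMod 3)) × (Fin 3 → SD act_g12) × (Fin 3 → SD act_g252b)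

theorem left_isSolvable : Group.IsSolvable Left := by
  haveI := pi_isSolvable solvable_a4 1
  haveI := pi_isSolvable solvable_g8 4
  haveI := pi_isSolvable solvable_g18 3
  haveI := pi_isSolvable solvable_g24 3
  haveI := pi_isSolvable solvable_g6 3
  haveI := pi_isSolvable solvable_g14 3
  haveI := pi_isSolvable solvable_g42 6
  haveI := pi_isSolvable solvable_g98 2
  haveI := pi_isSolvable solvable_g252 3
  haveI := pi_isSolvable solvable_a7 1
  haveI := pi_isSolvable solvable_g588 1
  haveI := pi_isSolvable solvable_g168 3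
  haveI := pi_isSolvable solvable_g504 3
  haveI := pi_isSolvable solvable_g448 3
  infer_instance

theorem sl3_not_solvable : ¬ Group.IsSolvable (Matrix.SpecialLinearGroup (Fin 3) (ZMod 2)) := by
  intro h
  haveI := h
  haveI : Group.IsSolvable (Matrix.ProjectiveSpecialLinearGroup (Fin 3) (ZMod 2)) :=
    Group.isSolvable_of_surjective (f := QuotientGroup.mk' _) (QuotientGroup.mk'_surjective _)
  haveI : IsSimpleGroup (Matrix.ProjectiveSpecialLinearGroup (Fin 3) (ZMod 2)) :=
    CfsgLib.Linear.isSimpleGroup_PSL (Or.inl (by simp))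
  exact (Group.IsSolvable.commutator_lt_top_of_nontrivial (Matrix.ProjectiveSpecialLinearGroup (Fin 3) (ZMod 2))).ne
    (CfsgLib.Linear.commutator_PSL_eq_top (Or.inl (by simp)))

theorem right_not_isSolvable : ¬ Group.IsSolvable Right := by
  intro h
  haveI := h
  let f : Right →* Matrix.SpecialLinearGroup (Fin 3) (ZMod 2) :=
    (Pi.evalMonoidHom (fun _ : Fin 3 => Matrix.SpecialLinearGroup (Fin 3) (ZMod 2)) 0).comp (MonoidHom.fst _ _)
  refine sl3_not_solvable (Group.isSolvable_of_surjective (f := f) fun y => ⟨(fun _ => y, 1), rfl⟩)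

theorem card_pow_left_eq_right (n : ℕ) :
    Nat.card {x : Left // x ^ n = 1} = Nat.card {x : Right // x ^ n = 1} := by
  have hL : HasProfile Left _ := (profile_a4.pow 1).prod ((profile_g8.pow 4).prod ((profile_g18.pow 3).prod ((profile_g24.pow 3).prod ((profile_g6.pow 3).prod ((profile_g14.pow 3).prod ((profile_g42.pow 6).prod ((profile_g98.pow 2).prod ((profile_g252.pow 3).prod ((profile_a7.pow 1).prod ((profile_g588.pow 1).prod ((profile_g168.pow 3).prod ((profile_g504.pow 3).prod (profile_g448.pow 3)))))))))))))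
  have hR : HasProfile Right _ := (profile_sl3.pow 3).prod ((profile_g28.pow 5).prod ((profile_g56.pow 4).prod ((profile_g36.pow 3).prod ((profile_a2.pow 29).prod ((profile_g126.pow 3).prod ((profile_g21.pow 4).prod ((profile_g294.pow 3).prod ((profile_a3.pow 3).prod ((profile_g12.pow 3).prod (profile_g252b.pow 3))))))))))
  refine HasProfile.card_pow_eq hL ?_ n
  convert hR using 1
  funext i
  revert i
  decide +kernel

end CfsgLib.OrderType
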